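import Groth.Agent.CycEtaleLib.Main
import Groth.Agent.TwistLib.SpecSections
import Groth.Agent.QCohLib.Affine
import Groth.Agent.QCohLib.Vanishing
import Mathlib

/-!
# Irreducibility of a cyclic cover
-/

set_option autoImplicit false
set_option linter.all false
set_option backward.isDefEq.respectTransparency false

universe u

open CategoryTheory CategoryTheory.Limits AlgebraicGeometry TopologicalSpace Opposite Polynomial AmpleLib AmpleThLib

noncomputable section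

namespace CycIrredLib

/-- Kummer irreducibility, the even case included, when `-1` is a square. -/
theorem kummer_irreducible {K : Type u} [Field K] {n : ℕ} (hn : n ≠ 0) {a : K} (hi : ∃ i : K, i ^ 2 = -1)
    (ha : ∀ p : ℕ, p.Prime → p ∣ n → ∀ b : K, b ^ p ≠ a) : Irreducible (X ^ n - C a) := by
  induction n using induction_on_primes generalizing K a with
  | zero => exact (hn rfl).elim
  | one => simpa using irreducible_X_sub_C a
  | prime_mul p n hp IH =>
    rw [mul_comm]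
    apply X_pow_mul_sub_C_irreducible
      (X_pow_sub_C_irreducible_of_prime hp (ha p hp (dvd_mul_right _ _)))
    intro E _ _ x hx
    have : IsIntegral K x := not_not.mp fun h ↦ by
      simpa only [degree_zero, degree_X_pow_sub_C hp.pos,
        WithBot.natCast_ne_bot] using congr_arg degree (hx.symm.trans (dif_neg h))
    obtain ⟨i, hi⟩ := hi
    apply IH (right_ne_zero_of_mul hn)
      ⟨algebraMap K _ i, by rw [← map_pow, hi, map_neg, map_one]⟩
    intro q hq hqn b hb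
    have h : Algebra.norm K b ^ q = (-1) ^ p * -a := by
      rw [← map_pow, hb, ← IntermediateField.adjoin.powerBasis_gen this,
        Algebra.PowerBasis.norm_gen_eq_coeff_zero_minpoly]
      simp [IntermediateField.minpoly_gen, hx, hp.ne_zero.symm]
    rcases hp.eq_two_or_odd' with rfl | hodd
    · rw [neg_one_sq, one_mul] at h
      rcases hq.eq_two_or_odd' with rfl | hqodd
      · exact ha 2 Nat.prime_two (dvd_mul_right _ _) (i * Algebra.norm K b) (by rw [mul_pow, hi, h]; ring)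
      · exact ha q hq (dvd_mul_of_dvd_right hqn 2) (-Algebra.norm K b) (by rw [hqodd.neg_pow, h, neg_neg])
    · exact ha q hq (dvd_mul_of_dvd_right hqn p) (Algebra.norm K b)
        (by rw [h, hodd.neg_pow, one_pow, neg_one_mul, neg_neg])

variable {S Y : Scheme.{u}}

/-- the restriction of functions -/
abbrev rsF {V W : S.Opens} (h : V ≤ W) : Γ(S, W) →+* Γ(S, V) := (S.presheaf.map (homOfLE h).op).hom

lemma rsF_inj [IsIntegral S] {V W : S.Opens} [Nonempty V] (h : V ≤ W) : Function.Injective (rsF h) :=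
  map_injective_of_isIntegral S (homOfLE h)

/-- the image in the function field -/
abbrev toK [IsIntegral S] (U : S.Opens) [Nonempty U] : Γ(S, U) →+* S.functionField :=
  (S.germToFunctionField U).hom

lemma toK_inj [IsIntegral S] (U : S.Opens) [Nonempty U] : Function.Injective (toK U) :=
  germ_injective_of_isIntegral S _ _

lemma toK_rsF [IsIntegral S] {V W : S.Opens} [Nonempty V] [Nonempty W] (h : V ≤ W) (r : Γ(S, W)) :
    toK V (rsF h r) = toK W r :=
  TopCat.Presheaf.germ_res_apply _ _ _ _ _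

lemma nonempty_inf [IsIntegral S] {U V : S.Opens} (hU : Nonempty U) (hV : Nonempty V) :
    Nonempty (U ⊓ V : S.Opens) := by
  obtain ⟨⟨x, hx⟩⟩ := hU
  obtain ⟨⟨y, hy⟩⟩ := hV
  obtain ⟨z, hz⟩ := nonempty_preirreducible_inter U.isOpen V.isOpen ⟨x, hx⟩ ⟨y, hy⟩
  exact ⟨⟨z, hz⟩⟩

lemma exists_affine_le {U : S.Opens} (h : Nonempty U) : ∃ V : S.Opens, IsAffineOpen V ∧ Nonempty V ∧ V ≤ U := by
  obtain ⟨⟨x, hx⟩⟩ := h
  obtain ⟨V, hV, hxV, hle⟩ := exists_isAffineOpen_mem_and_subset (U := U) (x := x) hx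
  exact ⟨V, hV, ⟨⟨x, hxV⟩⟩, hle⟩

/-- sections of a module with local generators are determined on a nonempty open -/
theorem eq_of_res_eq [IsIntegral S] {M : S.Modules}
    (hM : ∀ x : S, ∃ (T : S.Opens) (g : Γ(M, T)), x ∈ T ∧ GenOn M g)
    {W V : S.Opens} [Nonempty V] (h : V ≤ W) (σ τ : Γ(M, W))
    (hst : AmpleLib.res M h σ = AmpleLib.res M h τ) : σ = τ := by
  choose T g hxT hg using hM
  refine TopCat.Sheaf.eq_of_locally_eq' ⟨M.presheaf, M.isSheaf⟩ (fun x : W => T x.1 ⊓ W) W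
    (fun x => homOfLE inf_le_right) (fun x hx => Opens.mem_iSup.mpr ⟨⟨x, hx⟩, hxT x, hx⟩) σ τ fun x => ?_
  change AmpleLib.res M inf_le_right σ = AmpleLib.res M inf_le_right τ
  have hg' := (hg x.1).res (inf_le_left : T x.1 ⊓ W ≤ T x.1)
  obtain ⟨r, hr⟩ := (hg' _ le_rfl).2 (AmpleLib.res M inf_le_right σ)
  obtain ⟨t, ht⟩ := (hg' _ le_rfl).2 (AmpleLib.res M inf_le_right τ)
  simp only [res_refl] at hr ht
  haveI hne : Nonempty (T x.1 ⊓ W : S.Opens) := ⟨⟨x.1, hxT x.1, x.2⟩⟩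
  haveI := nonempty_inf hne (inferInstance : Nonempty V)
  have e : r = t := by
    apply rsF_inj (inf_le_left : (T x.1 ⊓ W) ⊓ V ≤ T x.1 ⊓ W)
    apply ((hg' _ inf_le_left)).1
    show rsF _ r • _ = rsF _ t • _
    rw [← res_smul, ← res_smul, hr, ht, res_res, res_res]
    have := congrArg (AmpleLib.res M (inf_le_right : (T x.1 ⊓ W) ⊓ V ≤ V)) hst
    rwa [res_res, res_res] at this
  rw [← hr, ← ht, e]

variable {k : Type u} [Field k]

/-- sections over an affine open of a smooth integral scheme form an integrally closed ring -/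
theorem isIntegrallyClosed_sections (f : S ⟶ Spec (CommRingCat.of k)) [Smooth f] [IsIntegral S]
    {U : S.Opens} (hU : IsAffineOpen U) [Nonempty U] : IsIntegrallyClosed Γ(S, U) := by
  let alg : Algebra k Γ(S, U) := (((Scheme.ΓSpecIso (CommRingCat.of k)).inv ≫ f.appLE ⊤ U le_top).hom).toAlgebra
  haveI : Algebra.Smooth k Γ(S, U) := by
    rw [← RingHom.smooth_algebraMap]
    have h := HasRingHomProperty.appLE @Smooth f inferInstance ⟨⊤, isAffineOpen_top _⟩ ⟨U, hU⟩ le_top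
    exact RingHom.Smooth.comp (RingHom.Smooth.of_bijective
      (ConcreteCategory.bijective_of_isIso (Scheme.ΓSpecIso (CommRingCat.of k)).inv)) h
  haveI : IsRegularRing Γ(S, U) := CohenLib.isRegularRing_of_smooth k Γ(S, U)
  refine IsIntegrallyClosed.of_localization_maximal fun P _ hP => ?_
  haveI := (isRegularRing_iff.1 (inferInstance : IsRegularRing Γ(S, U))) P
  exact NormalLib.isIntegrallyClosed_of_isRegularLocalRing _

/-- a square root of `-1` in the function field -/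
theorem exists_sq_eq_neg_one [IsAlgClosed k] (f : S ⟶ Spec (CommRingCat.of k)) [IsIntegral S] :
    ∃ i : S.functionField, i ^ 2 = -1 := by
  obtain ⟨i, hi⟩ := IsAlgClosed.exists_pow_nat_eq (-1 : k) Nat.two_pos
  haveI : Nonempty (⊤ : S.Opens) := ⟨⟨genericPoint S, trivial⟩⟩
  let φ : k →+* S.functionField :=
    (toK (S := S) ⊤).comp (((Scheme.ΓSpecIso (CommRingCat.of k)).inv ≫ f.appTop).hom)
  exact ⟨φ i, by rw [← map_pow, hi, map_neg, map_one]⟩

lemma genOn_of_isGen {M : S.Modules} (hM : PicF.IsInvertible M) {U : S.Opens} (hU : IsAffineOpen U) {e : Γ(M, U)}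
    (he : CycCov.IsGen M U e) : GenOn M e := by
  refine TwistLib.genOn_of_genAt fun x hx => ?_
  obtain ⟨T, e₀, hxT, he₀⟩ := TwistLib.exists_genOn hM x
  obtain ⟨g, hgle, hxg⟩ := hU.exists_basicOpen_le (⟨x, hxT⟩ : T) hx
  haveI := TwistLib.isQCoh_of_isInvertible hM
  have hBU : S.basicOpen g ≤ U := S.basicOpen_le g
  have hg₀ := he₀.res hgle
  obtain ⟨r, hr⟩ := (hg₀ _ le_rfl).2 (AmpleLib.res M hBU e)
  simp only [res_refl] at hr
  obtain ⟨n, t, ht⟩ := (QCohLib.localizingAt_of_isQCoh hU M g).exists_extend (AmpleLib.res M hgle e₀)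
  obtain ⟨a, ha⟩ := he.2 t
  have h2 : rsF hBU a * r = rsF hBU g ^ n := (hg₀ _ le_rfl).1 (by
    dsimp only
    rw [res_refl, mul_smul, hr, ← res_smul]
    exact (congrArg (AmpleLib.res M hBU) ha).trans ht)
  have hu : IsUnit r := isUnit_of_mul_isUnit_right (h2 ▸ (QCohLib.isUnit_res g le_rfl).pow n)
  rw [← genAt_res hBU e hxg, ← hr, genAt_smul_iff r _ hxg (hg₀.genAt hxg)]
  exact (S.basicOpen_of_isUnit hu).ge hxg

variable {L : S.Modules} {N : ℕ} {s : Coh.structureModule S ⟶ CohB1.tensorPow L N}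

lemma val_res (s : Coh.structureModule S ⟶ CohB1.tensorPow L N) {V W : S.Opens} (h : V ≤ W) :
    AmpleLib.res (CohB1.tensorPow L N) h (SecTwist.val s W) = SecTwist.val s V :=
  SecTwist.map_val s (homOfLE h)

lemma coeff_res {V W : S.Opens} (h : V ≤ W) {e : Γ(L, W)} {c : Γ(S, W)} {n : ℕ}
    {σ : Γ(CohB1.tensorPow L n, W)} (hc : σ = c • pS e n) :
    AmpleLib.res (CohB1.tensorPow L n) h σ = rsF h c • pS (AmpleLib.res L h e) n := by
  rw [hc, res_smul, pS_res]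

lemma coeff_unique {W : S.Opens} {e : Γ(L, W)} (he : GenOn L e) {n : ℕ} {a b : Γ(S, W)}
    (h : a • pS e n = b • pS e n) : a = b := by
  refine (pS_genOn he n W le_rfl).1 ?_
  simpa only [res_refl] using h

lemma tensorPow_frames (hL : PicF.IsInvertible L) (n : ℕ) (x : S) :
    ∃ (T : S.Opens) (g : Γ(CohB1.tensorPow L n, T)), x ∈ T ∧ GenOn (CohB1.tensorPow L n) g := by
  obtain ⟨T, e, hx, he⟩ := TwistLib.exists_genOn hL x
  exact ⟨T, _, hx, pS_genOn he n⟩

/-- a `μ`-th root at the generic point gives a global one -/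
theorem exists_section [IsAlgClosed k] (f : S ⟶ Spec (CommRingCat.of k)) [Smooth f] [IsIntegral S]
    (hL : PicF.IsInvertible L) (hN : 0 < N) {μ : ℕ} (hμ0 : 0 < μ) (hμN : μ ∣ N)
    {V : S.Opens} [Nonempty V] {e : Γ(L, V)} (he : GenOn L e)
    {c : Γ(S, V)} (hc : SecTwist.val s V = c • pS e N) {β : S.functionField} (hβ : β ^ μ = toK V c) :
    ∃ s' : Coh.structureModule S ⟶ CohB1.tensorPow L (N / μ),
      ∀ (U : S.affineOpens) (e : L.val.obj (op U.1)), CycCov.IsGen L U.1 e →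
        ∀ a b : Γ(S, U.1), SecTwist.val s U.1 = a • CycCov.lpow L U.1 e N →
          SecTwist.val s' U.1 = b • CycCov.lpow L U.1 e (N / μ) → a = b ^ μ := by
  obtain ⟨Ub, hgen, b₀, rfl⟩ := S.presheaf.exists_germ_eq (x := genericPoint S) β
  haveI hUb : Nonempty Ub := ⟨⟨_, hgen⟩⟩
  haveI hV₁ : Nonempty (Ub ⊓ V : S.Opens) := nonempty_inf hUb inferInstance
  let V₁ := Ub ⊓ V
  haveI hV₁' : Nonempty V₁ := hV₁
  let b₁ := rsF (inf_le_left : V₁ ≤ Ub) b₀
  let e₁ := AmpleLib.res L (inf_le_right : V₁ ≤ V) e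
  have he₁ : GenOn L e₁ := he.res _
  have hb₁ : b₁ ^ μ = rsF (inf_le_right : V₁ ≤ V) c := toK_inj V₁ (by
    rw [map_pow, toK_rsF, toK_rsF]; exact hβ)
  have hc₁ : SecTwist.val s V₁ = rsF (inf_le_right : V₁ ≤ V) c • pS e₁ N := by
    rw [← val_res s (inf_le_right : V₁ ≤ V), coeff_res _ hc]
  let m := N / μ
  have hm : m * μ = N := Nat.div_mul_cancel hμN
  let M := CohB1.tensorPow L m
  let σ₀ : Γ(M, V₁) := b₁ • pS e₁ m
  have hM := tensorPow_frames hL m
  -- comparison with any frame on a smaller open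
  have key : ∀ (U : S.Opens) (eU : Γ(L, U)), GenOn L eU → ∀ cU : Γ(S, U), SecTwist.val s U = cU • pS eU N →
      ∀ (V₂ : S.Opens) (h₂ : V₂ ≤ U) (h₁ : V₂ ≤ V₁), ∃ b₂ : Γ(S, V₂),
        AmpleLib.res M h₁ σ₀ = b₂ • pS (AmpleLib.res L h₂ eU) m ∧ b₂ ^ μ = rsF h₂ cU := by
    intro U eU hU cU hcU V₂ h₂ h₁
    obtain ⟨v, hv⟩ := (hU V₂ h₂).2 (AmpleLib.res L h₁ e₁)
    dsimp only at hv
    refine ⟨rsF h₁ b₁ * v ^ m, ?_, ?_⟩
    · rw [coeff_res h₁ (rfl : σ₀ = b₁ • pS e₁ m), ← hv, pS_smul, smul_smul]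
    · refine coeff_unique (hU.res h₂) (n := N) ?_
      rw [← coeff_res h₂ hcU, val_res, ← val_res s h₁, coeff_res h₁ hc₁, ← hv, pS_smul, smul_smul,
        mul_pow, ← map_pow, hb₁, ← pow_mul, hm]
  have loc : ∀ x : S, ∃ (U : S.Opens) (τ : Γ(M, U)), x ∈ U ∧
      AmpleLib.res M (inf_le_left : U ⊓ V₁ ≤ U) τ = AmpleLib.res M (inf_le_right : U ⊓ V₁ ≤ V₁) σ₀ := by
    intro x
    obtain ⟨T, e₀, hxT, he₀⟩ := TwistLib.exists_genOn hL x
    obtain ⟨U, hU, hxU, hUT⟩ := exists_isAffineOpen_mem_and_subset (U := T) (x := x) hxT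
    haveI hne : Nonempty U := ⟨⟨x, hxU⟩⟩
    let eU := AmpleLib.res L hUT e₀
    have heU : GenOn L eU := he₀.res _
    obtain ⟨cU, hcU⟩ := (pS_genOn heU N U le_rfl).2 (SecTwist.val s U)
    simp only [res_refl] at hcU
    haveI h2ne : Nonempty (U ⊓ V₁ : S.Opens) := nonempty_inf hne hV₁
    obtain ⟨b₂, hb₂σ, hb₂⟩ := key U eU heU cU hcU.symm (U ⊓ V₁) inf_le_left inf_le_right
    haveI := functionField_isFractionRing_of_isAffineOpen S U hU
    haveI := isIntegrallyClosed_sections f hU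
    have hint : _root_.IsIntegral Γ(S, U) (toK (U ⊓ V₁) b₂) := by
      refine ⟨Polynomial.X ^ μ - Polynomial.C cU, monic_X_pow_sub_C cU hμ0.ne', ?_⟩
      rw [eval₂_sub, eval₂_X_pow, eval₂_C, ← map_pow, hb₂, toK_rsF]
      exact sub_self _
    obtain ⟨B, hB⟩ := IsIntegrallyClosed.isIntegral_iff.mp hint
    refine ⟨U, B • pS eU m, hxU, ?_⟩
    rw [coeff_res _ rfl, hb₂σ]
    congr 1
    refine toK_inj (U ⊓ V₁) ?_
    rw [toK_rsF]
    exact hB
  choose W τ hxW hτ using loc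
  obtain ⟨σ, hσ, -⟩ := TopCat.Sheaf.existsUnique_gluing' ⟨M.presheaf, M.isSheaf⟩ W ⊤
    (fun x => homOfLE le_top) (show (⊤ : S.Opens) ≤ iSup W from fun x _ => Opens.mem_iSup.mpr ⟨x, hxW x⟩) τ (by
      intro x y
      change AmpleLib.res M (inf_le_left : W x ⊓ W y ≤ W x) (τ x) =
        AmpleLib.res M (inf_le_right : W x ⊓ W y ≤ W y) (τ y)
      by_cases hne : Nonempty ↥(W x ⊓ W y)
      · haveI := nonempty_inf hne hV₁
        refine eq_of_res_eq hM (inf_le_left : (W x ⊓ W y) ⊓ V₁ ≤ W x ⊓ W y) _ _ ?_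
        rw [res_res, res_res]
        have h1 := congrArg (AmpleLib.res M (inf_le_inf_right V₁ inf_le_left : (W x ⊓ W y) ⊓ V₁ ≤ W x ⊓ V₁)) (hτ x)
        have h2 := congrArg (AmpleLib.res M (inf_le_inf_right V₁ inf_le_right : (W x ⊓ W y) ⊓ V₁ ≤ W y ⊓ V₁)) (hτ y)
        rw [res_res, res_res] at h1 h2
        exact h1.trans h2.symm
      · exact TwistLib.mod_ext M fun z hz => (hne ⟨⟨z, hz⟩⟩).elim)
  have hσ₀ : AmpleLib.res M (le_top : V₁ ≤ ⊤) σ = σ₀ := by
    refine TwistLib.mod_ext M fun x hx => ?_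
    have h1 := congrArg (AmpleLib.res M (inf_le_left : W x ⊓ V₁ ≤ W x))
      (show AmpleLib.res M (le_top : W x ≤ ⊤) σ = τ x from hσ x)
    rw [res_res, hτ x] at h1
    have h2 := congrArg (M.presheaf.germ (W x ⊓ V₁) x ⟨hxW x, hx⟩) h1
    rw [germ_res, germ_res] at h2
    rw [germ_res]
    exact h2
  refine ⟨QCohLib.unitHom M σ, fun U eU heU a b ha hb => ?_⟩
  by_cases hne : Nonempty U.1
  · have hgU := genOn_of_isGen hL U.2 heU
    haveI hn2 : Nonempty (U.1 ⊓ V₁ : S.Opens) := nonempty_inf hne hV₁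
    rw [CycEtaleLib.lpow_eq_pS] at ha hb
    obtain ⟨b₂, hb₂σ, hb₂⟩ := key U.1 eU hgU a ha (U.1 ⊓ V₁) inf_le_left inf_le_right
    have hv : SecTwist.val (QCohLib.unitHom M σ) U.1 = AmpleLib.res M le_top σ := by
      exact (QCohLib.unitHom_app M σ U.1 1).trans (one_smul _ _)
    refine rsF_inj (inf_le_left : U.1 ⊓ V₁ ≤ U.1) ?_
    rw [map_pow, ← hb₂]
    congr 1
    refine coeff_unique (hgU.res inf_le_left) (n := m) ?_
    rw [← hb₂σ, ← coeff_res _ hb, hv, res_res, ← hσ₀, res_res]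
  · haveI : Subsingleton Γ(S, U.1) := by
      have : U.1 = ⊥ := le_bot_iff.mp fun x hx => (hne ⟨⟨x, hx⟩⟩).elim
      rw [this]
      infer_instance
    exact Subsingleton.elim _ _

variable {π : Y ⟶ S}

/-- a chart with no root at the generic point is a domain -/
theorem isDomain_adjoinRoot {A : Type u} [CommRing A] [IsDomain A] {K : Type u} [Field K] (φ : A →+* K)
    (hφ : Function.Injective φ) {n : ℕ} (hn : n ≠ 0) {c : A}
    (h : Irreducible (Polynomial.X ^ n - Polynomial.C (φ c))) :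
    IsDomain (AdjoinRoot (Polynomial.X ^ n - Polynomial.C c)) := by
  haveI := Fact.mk h
  let p : A[X] := Polynomial.X ^ n - Polynomial.C c
  let q : K[X] := Polynomial.X ^ n - Polynomial.C (φ c)
  have hpq : p.map φ = q := by simp [p, q]
  let ρ : AdjoinRoot p →+* AdjoinRoot q := AdjoinRoot.lift ((AdjoinRoot.of q).comp φ) (AdjoinRoot.root q) (by
    rw [← Polynomial.eval₂_map, hpq]
    exact AdjoinRoot.eval₂_root q)
  have hρmk : ∀ g : A[X], ρ (AdjoinRoot.mk p g) = AdjoinRoot.mk q (g.map φ) := fun g => by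
    rw [AdjoinRoot.lift_mk, ← Polynomial.eval₂_map, ← AdjoinRoot.aeval_eq, aeval_def, AdjoinRoot.algebraMap_eq]
  have hρ : Function.Injective ρ := (injective_iff_map_eq_zero ρ).mpr fun z hz => by
    obtain ⟨g, rfl⟩ := AdjoinRoot.mk_surjective z
    rw [hρmk, AdjoinRoot.mk_eq_zero, ← hpq] at hz
    rw [AdjoinRoot.mk_eq_zero]
    exact (Polynomial.map_dvd_map φ hφ (monic_X_pow_sub_C c hn)).mp hz
  exact hρ.isDomain ρ

lemma nontrivial_adjoinRoot {A : Type u} [CommRing A] [Nontrivial A] {n : ℕ} (hn : n ≠ 0) (c : A) :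
    Nontrivial (AdjoinRoot (Polynomial.X ^ n - Polynomial.C c)) := by
  refine ⟨0, 1, fun h => ?_⟩
  rw [← map_one (AdjoinRoot.mk _)] at h
  exact (monic_X_pow_sub_C c hn).not_dvd_of_natDegree_lt one_ne_zero
    (by rw [natDegree_one, natDegree_X_pow_sub_C]; omega) (AdjoinRoot.mk_eq_zero.mp h.symm)

theorem not_irreducible_iff [IsAlgClosed k] (f : S ⟶ Spec (CommRingCat.of k)) [Smooth f] [IsIntegral S]
    (hL : PicF.IsInvertible L) (hN : 0 < N)
    (R : CycCov.Root L N s π) (hR : CycCov.IsCover R) :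
    ¬ IrreducibleSpace Y ↔
      ∃ μ : ℕ, 1 < μ ∧ μ ∣ N ∧ ∃ s' : Coh.structureModule S ⟶ CohB1.tensorPow L (N / μ),
        ∀ (U : S.affineOpens) (e : L.val.obj (op U.1)), CycCov.IsGen L U.1 e →
          ∀ a b : Γ(S, U.1), SecTwist.val s U.1 = a • CycCov.lpow L U.1 e N →
            SecTwist.val s' U.1 = b • CycCov.lpow L U.1 e (N / μ) → a = b ^ μ := by
  obtain ⟨hfin, hYn, W, hW, hWY, hchart⟩ := hR
  haveI : IsFinite π := hfin
  -- a chart inside `W`, at any given point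
  have chart_at : ∀ x ∈ W, ∃ (V : S.affineOpens) (e : Γ(L, V.1)) (c : Γ(S, V.1)),
      x ∈ V.1 ∧ V.1 ≤ W ∧ GenOn L e ∧ SecTwist.val s V.1 = c • pS e N := by
    intro x hx
    obtain ⟨T, e₀, hxT, he₀⟩ := TwistLib.exists_genOn hL x
    obtain ⟨V, hV, hxV, hle⟩ := exists_isAffineOpen_mem_and_subset (U := W ⊓ T) (x := x) ⟨hx, hxT⟩
    let e := AmpleLib.res L (le_trans hle inf_le_right) e₀
    obtain ⟨c, hc⟩ := (pS_genOn (he₀.res (le_trans hle inf_le_right)) N V le_rfl).2 (SecTwist.val s V)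
    simp only [res_refl] at hc
    exact ⟨⟨V, hV⟩, e, c, hxV, le_trans hle inf_le_left, he₀.res _, hc.symm⟩
  have bij : ∀ (V : S.affineOpens) (e : Γ(L, V.1)) (c : Γ(S, V.1)), V.1 ≤ W → GenOn L e →
      SecTwist.val s V.1 = c • pS e N →
      Nonempty (AdjoinRoot (Polynomial.X ^ N - Polynomial.C c) ≃+* Γ(Y, π ⁻¹ᵁ V.1)) := by
    intro V e c hVW he hc
    rw [← CycEtaleLib.lpow_eq_pS] at hc
    exact ⟨RingEquiv.ofBijective _ (hchart V hVW e (CycEtaleLib.isGen_of_genOn he) c hc)⟩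
  have hne : ∀ (V : S.affineOpens) (e : Γ(L, V.1)) (c : Γ(S, V.1)), Nonempty V.1 → V.1 ≤ W → GenOn L e →
      SecTwist.val s V.1 = c • pS e N → Nonempty (π ⁻¹ᵁ V.1 : Y.Opens) := by
    intro V e c hV hVW he hc
    haveI := hV
    obtain ⟨E⟩ := bij V e c hVW he hc
    haveI := nontrivial_adjoinRoot hN.ne' c
    haveI : Nontrivial Γ(Y, π ⁻¹ᵁ V.1) := E.symm.toEquiv.nontrivial
    by_contra h
    have h' : π ⁻¹ᵁ V.1 = ⊥ := le_bot_iff.mp fun x hx => (h ⟨⟨x, hx⟩⟩).elim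
    have : Subsingleton Γ(Y, π ⁻¹ᵁ V.1) := by rw [h']; infer_instance
    exact not_subsingleton Γ(Y, π ⁻¹ᵁ V.1) this
  obtain ⟨x₀, hx₀⟩ := hW.nonempty
  obtain ⟨V₀, eV, cV, hxV₀, hV₀W, heV, hcV⟩ := chart_at x₀ hx₀
  haveI hV₀ : Nonempty V₀.1 := ⟨⟨x₀, hxV₀⟩⟩
  constructor
  · intro hnot
    by_contra hno
    apply hnot
    have hdom : ∀ (V : S.affineOpens) (e : Γ(L, V.1)) (c : Γ(S, V.1)), Nonempty V.1 → V.1 ≤ W → GenOn L e →
        SecTwist.val s V.1 = c • pS e N → IsPreirreducible ((π ⁻¹ᵁ V.1 : Y.Opens) : Set Y) := by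
      intro V e c hV hVW he hc
      haveI := hV
      have hirr : Irreducible (Polynomial.X ^ N - Polynomial.C (toK V.1 c)) := by
        refine kummer_irreducible hN.ne' (exists_sq_eq_neg_one f) fun p hp hpN β hβ => hno ?_
        exact ⟨p, hp.one_lt, hpN, exists_section f hL hN hp.pos hpN he hc hβ⟩
      haveI := isDomain_adjoinRoot (toK V.1) (toK_inj V.1) hN.ne' hirr
      obtain ⟨E⟩ := bij V e c hVW he hc
      haveI : IsDomain Γ(Y, π ⁻¹ᵁ V.1) := E.symm.toMulEquiv.isDomain _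
      have hA : IsAffineOpen (π ⁻¹ᵁ V.1) := V.2.preimage π
      rw [← hA.range_fromSpec, ← Set.image_univ]
      exact (IrreducibleSpace.isIrreducible_univ _).isPreirreducible.image _ hA.fromSpec.continuous.continuousOn
    haveI : PreirreducibleSpace Y := by
      refine ⟨fun A B hA hB hAn hBn => ?_⟩
      rw [Set.univ_inter] at hAn hBn
      rw [Set.univ_inter]
      obtain ⟨y, hy, hyW⟩ := hWY.inter_open_nonempty A hA hAn
      obtain ⟨z, hz, hzW⟩ := hWY.inter_open_nonempty B hB hBn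
      obtain ⟨V, e, c, hyV, hVW, he, hc⟩ := chart_at _ hyW
      obtain ⟨V', e', c', hzV, hVW', he', hc'⟩ := chart_at _ hzW
      obtain ⟨w, hwV, hwV'⟩ := nonempty_preirreducible_inter V.1.isOpen V'.1.isOpen ⟨π y, hyV⟩ ⟨π z, hzV⟩
      obtain ⟨U, hU, hwU, hUle⟩ := exists_isAffineOpen_mem_and_subset (U := V.1 ⊓ V'.1) (x := w) ⟨hwV, hwV'⟩
      have hUV : U ≤ V.1 := le_trans hUle inf_le_left
      have hUV' : U ≤ V'.1 := le_trans hUle inf_le_right
      obtain ⟨⟨q, hq⟩⟩ := hne ⟨U, hU⟩ (AmpleLib.res L hUV e) (rsF hUV c) ⟨⟨w, hwU⟩⟩ (le_trans hUV hVW)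
        (he.res _) (by rw [← val_res s hUV, coeff_res _ hc])
      obtain ⟨r, hr, hr'⟩ := hdom V e c ⟨⟨_, hyV⟩⟩ hVW he hc A (π ⁻¹ᵁ U : Y.Opens) hA (π ⁻¹ᵁ U).isOpen
        ⟨y, hyV, hy⟩ ⟨q, hUV hq, hq⟩
      obtain ⟨r', hr₂, hr₃⟩ := hdom V' e' c' ⟨⟨_, hzV⟩⟩ hVW' he' hc' (A ∩ (π ⁻¹ᵁ U : Y.Opens)) B
        (hA.inter (π ⁻¹ᵁ U).isOpen) hB ⟨r, hUV' hr'.2, hr'⟩ ⟨z, hzV, hz⟩
      exact ⟨r', hr₃.1.1, hr₃.2⟩
    obtain ⟨⟨y, -⟩⟩ := hne V₀ eV cV hV₀ hV₀W heV hcV
    exact { toNonempty := ⟨y⟩ }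
  · rintro ⟨μ, hμ, hμN, s', hs'⟩ hirr
    haveI : AlgebraicGeometry.IsReduced Y := by
      haveI : ∀ y : Y, _root_.IsReduced (Y.presheaf.stalk y) := fun y => by
        haveI := (hYn y).1
        infer_instance
      exact isReduced_of_isReduced_stalk Y
    haveI := isIntegral_of_irreducibleSpace_of_isReduced Y
    haveI := hne V₀ eV cV hV₀ hV₀W heV hcV
    obtain ⟨b, hb⟩ := (pS_genOn heV (N / μ) V₀.1 le_rfl).2 (SecTwist.val s' V₀.1)
    simp only [res_refl] at hb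
    have hcb : cV = b ^ μ := hs' V₀ eV (CycEtaleLib.isGen_of_genOn heV) cV b
      (by rw [CycEtaleLib.lpow_eq_pS]; exact hcV) (by rw [CycEtaleLib.lpow_eq_pS]; exact hb.symm)
    obtain ⟨E⟩ := bij V₀ eV cV hV₀W heV hcV
    haveI : IsDomain (AdjoinRoot (Polynomial.X ^ N - Polynomial.C cV)) := E.toMulEquiv.isDomain _
    let m := N / μ
    have hm : m * μ = N := Nat.div_mul_cancel hμN
    have hmlt : m < N := Nat.div_lt_self hN hμ
    have hm0 : m ≠ 0 := fun h => by rw [h, zero_mul] at hm; omega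
    let p : Γ(S, V₀.1)[X] := Polynomial.X ^ N - Polynomial.C cV
    let P : Γ(S, V₀.1)[X] := Polynomial.X ^ m - Polynomial.C b
    obtain ⟨Q, hQ⟩ : P ∣ p := by
      have := sub_dvd_pow_sub_pow (Polynomial.X ^ m : Γ(S, V₀.1)[X]) (Polynomial.C b) μ
      rwa [← pow_mul, hm, ← map_pow, ← hcb] at this
    have hp : p.Monic := monic_X_pow_sub_C cV hN.ne'
    have hP : P.Monic := monic_X_pow_sub_C b hm0
    have hQm : Q.Monic := hP.of_mul_monic_left (hQ ▸ hp)
    have hdeg := congrArg natDegree hQ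
    rw [hP.natDegree_mul hQm, natDegree_X_pow_sub_C, natDegree_X_pow_sub_C] at hdeg
    have h0 : AdjoinRoot.mk p P * AdjoinRoot.mk p Q = 0 := by rw [← map_mul, ← hQ, AdjoinRoot.mk_self]
    rcases mul_eq_zero.mp h0 with h | h
    · exact hp.not_dvd_of_natDegree_lt hP.ne_zero
        (by rw [natDegree_X_pow_sub_C, natDegree_X_pow_sub_C]; exact hmlt) (AdjoinRoot.mk_eq_zero.mp h)
    · exact hp.not_dvd_of_natDegree_lt hQm.ne_zero
        (by rw [natDegree_X_pow_sub_C]; have : 1 ≤ N / μ := Nat.one_le_iff_ne_zero.mpr hm0; rw [hdeg]; exact Nat.lt_add_of_pos_left this) (AdjoinRoot.mk_eq_zero.mp h)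

end CycIrredLib
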